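import Cfsg.Agent.H179.SLC.Iface
import Cfsg.Agent.H280.L64.RefC

/-!
# S5915, R6: the refined pressure theorem, without hypotheses (helper280)
-/

set_option autoImplicit false
set_option linter.unusedVariables false

namespace Cfsg.Agent.H280.L64

open Matrix Cfsg.Agent.H943.SL2Rel Cfsg.Agent.H943.RepAdd Cfsg.Agent.H939.L64 Cfsg.Agent.H875.L64

variable {k : Type} [Field k] [IsAlgClosed k] [CharP k 2] {F : Type} [Field F] [Fintype F] [DecidableEq F] {ι : F →+* k}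
  {lam : Fˣ} {y : SpecialLinearGroup (Fin 2) F} {ζ : k}

/-- the inputs R1, R2, R3a, PR (helper179) -/
theorem inp (D : Dat ι lam y ζ) : Inp ι lam y ζ where
  ex _ _ _ _ ρ := Cfsg.Agent.H179.SLC.R3a D ρ
  pr _ _ _ _ ρ m hm := by
    obtain ⟨n, hn, hp⟩ := Cfsg.Agent.H179.SLC.exists_pressure D ρ
    have h := specM_unique hm hn
    rw [h 0 (by norm_num)]
    refine hp.trans (le_of_eq ?_)
    congr 1
    refine Finset.sum_congr rfl fun i hi => (h _ ?_).symm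
    calc 2 ^ i < 2 ^ 6 := Nat.pow_lt_pow_right (by norm_num) (Finset.mem_range.1 hi)
      _ = 64 := by norm_num
  irr _ _ _ _ ρ hI := Cfsg.Agent.H179.SLC.R1 D ρ hI
  wt _ _ _ _ ρ W hW _ hb h := (Cfsg.Agent.H179.SLC.R2 D ρ W hW hb h).1 0 (by norm_num)

/-- **R6**: the refined pressure theorem (`σ` the Frobenius map on the coordinates) -/
theorem R6 (D : Dat ι lam y ζ) {V : Type} [AddCommGroup V] [Module k V] [FiniteDimensional k V]
    (ρ : Representation k (SpecialLinearGroup (Fin 2) F) V) (B : V →ₗ[k] V →ₗ[k] k)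
    (hB : ∀ g v w, B (ρ g v) (ρ g w) = B v w) (hnd : ∀ v, (∀ w, B v w = 0) → v = 0) (hsym : ∀ v w, B v w = B w v)
    (σ : V ≃+ V) (hσ : ∀ (c : k) v, σ (c • v) = c ^ 2 • σ v) (hσρ : ∀ g v, σ (ρ g v) = ρ g (σ v))
    {m : ℕ → ℕ} (hm : SpecM ι ρ lam y ζ m) (h0 : fixS ρ = ⊥) (hpos : m 0 ≠ 0) : m 0 + 6 ≤ 6 * m 1 :=
  R6_of ρ D (inp D) B hB hnd σ hσ hσρ hm h0 hpos

end Cfsg.Agent.H280.L64
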